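import Mathlib
import Groth.Agent.Lib.Helper6.FlatHartogs

/-!
# Flat algebras over a normal Noetherian domain: integral closedness in the generic fibre

`A` a normal Noetherian domain, `B` a flat `A`-algebra such that `B/pB` is reduced for every
height-one prime `p` of `A`; `T` the localization of `B` at the nonzero elements of `A`.  Then `B`
is integrally closed in `T`.
-/

universe u

namespace Groth.Agent.H8.FlatNormalAsc

section Poly

theorem pow_mem_span_of_integral {A B : Type*} [CommRing A] [CommRing B] (θ : A →+* B)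
    (hinj : Function.Injective θ) (ϖ a : A) (b' : B) (hb' : θ.IsIntegralElem b')
    (h : θ ϖ * b' = θ a) : ∃ d : ℕ, a ^ d ∈ Ideal.span {ϖ} := by
  obtain ⟨p, hpm, hpr⟩ := hb'
  have h1 : Polynomial.eval₂ θ (θ ϖ * b') (Polynomial.scaleRoots p ϖ) = 0 :=
    Polynomial.scaleRoots_eval₂_eq_zero θ hpr
  rw [h, Polynomial.eval₂_at_apply] at h1
  have h2 : Polynomial.eval a (Polynomial.scaleRoots p ϖ) = 0 :=
    hinj (h1.trans (map_zero θ).symm)
  have hd : Polynomial.eval a (Polynomial.scaleRoots p ϖ) =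
      (∑ i ∈ Finset.range p.natDegree, p.coeff i * ϖ ^ (p.natDegree - i) * a ^ i) +
        a ^ p.natDegree := by
    rw [Polynomial.eval_eq_sum_range, Polynomial.natDegree_scaleRoots, Finset.sum_range_succ]
    congr 1
    · apply Finset.sum_congr rfl
      intro i _
      rw [Polynomial.coeff_scaleRoots]
    · rw [Polynomial.coeff_scaleRoots, Nat.sub_self, pow_zero, mul_one, hpm.coeff_natDegree,
        one_mul]
  refine ⟨p.natDegree, ?_⟩
  have h3 : a ^ p.natDegree =
      - ∑ i ∈ Finset.range p.natDegree, p.coeff i * ϖ ^ (p.natDegree - i) * a ^ i := by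
    rw [hd] at h2
    exact eq_neg_of_add_eq_zero_right h2
  rw [h3]
  refine (Ideal.neg_mem_iff _).2 ?_
  apply Ideal.sum_mem
  intro i hi
  have hi' : 1 ≤ p.natDegree - i := by
    have := Finset.mem_range.1 hi
    omega
  obtain ⟨m, hm⟩ := Nat.exists_eq_add_of_le' hi'
  rw [hm, pow_succ, Ideal.mem_span_singleton']
  exact ⟨p.coeff i * ϖ ^ m * a ^ i, by ring⟩

end Poly

section DVR

variable {A : Type u} [CommRing A] [IsDomain A] [IsNoetherianRing A] [IsIntegrallyClosed A]

theorem isDVR_atPrime (p : Ideal A) [p.IsPrime] (hp : p.height = 1) :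
    IsDiscreteValuationRing (Localization.AtPrime p) := by
  haveI : IsNoetherianRing (Localization.AtPrime p) :=
    IsLocalization.isNoetherianRing p.primeCompl _ inferInstance
  haveI hic : IsIntegrallyClosed (Localization.AtPrime p) :=
    isIntegrallyClosed_of_isLocalization _ p.primeCompl p.primeCompl_le_nonZeroDivisors
  have hdim : ringKrullDim (Localization.AtPrime p) = 1 := by
    rw [IsLocalization.AtPrime.ringKrullDim_eq_height p (Localization.AtPrime p), hp]
    rfl
  have hnf : ¬ IsField (Localization.AtPrime p) := by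
    intro hf
    have := ringKrullDim_eq_zero_of_isField hf
    rw [hdim] at this
    exact one_ne_zero this
  haveI : Ring.KrullDimLE 1 (Localization.AtPrime p) :=
    Ring.krullDimLE_iff.mpr (by rw [hdim]; exact le_rfl)
  have hm0 : IsLocalRing.maximalIdeal (Localization.AtPrime p) ≠ ⊥ :=
    IsLocalRing.isField_iff_maximalIdeal_eq.not.mp hnf
  have htfae := (IsDiscreteValuationRing.TFAE (Localization.AtPrime p) hnf).out 3 0
  refine htfae.mp ?_
  refine ⟨hic, IsLocalRing.maximalIdeal _, ⟨hm0, inferInstance⟩, ?_⟩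
  rintro P ⟨hP0, hP⟩
  exact IsLocalRing.eq_maximalIdeal (hP.isMaximal_of_ne_bot hP0)

theorem exists_uniformizer (p : Ideal A) [p.IsPrime] (hp : p.height = 1) :
    ∃ ϖ : A, ϖ ∈ p ∧ ϖ ≠ 0 ∧ (∀ a ∈ p, ∃ v : A, v ∉ p ∧ v * a ∈ Ideal.span {ϖ}) ∧
      (∀ d : A, d ≠ 0 → ∃ (n : ℕ) (u v : A), u ∉ p ∧ v ∉ p ∧ v * d = u * ϖ ^ n) := by
  haveI := isDVR_atPrime p hp
  have hinj : Function.Injective (algebraMap A (Localization.AtPrime p)) :=
    IsLocalization.injective (Localization.AtPrime p) p.primeCompl_le_nonZeroDivisors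
  obtain ⟨ϖ', hϖ'⟩ := IsDiscreteValuationRing.exists_irreducible (Localization.AtPrime p)
  obtain ⟨x, s, rfl⟩ := IsLocalization.exists_mk'_eq p.primeCompl ϖ'
  have hunit_s : IsUnit (algebraMap A (Localization.AtPrime p) s) :=
    IsLocalization.map_units (Localization.AtPrime p) s
  have hirr : Irreducible (algebraMap A (Localization.AtPrime p) x) := by
    have hassoc : Associated (IsLocalization.mk' (Localization.AtPrime p) x s)
        (algebraMap A (Localization.AtPrime p) x) :=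
      ⟨hunit_s.unit, by rw [IsUnit.unit_spec]; exact IsLocalization.mk'_spec _ x s⟩
    exact hassoc.irreducible hϖ'
  have hxp : x ∈ p := by
    by_contra hx
    exact hirr.not_isUnit ((IsLocalization.AtPrime.isUnit_to_map_iff _ p x).2 hx)
  have hx0 : x ≠ 0 := by
    rintro rfl
    exact hirr.ne_zero (map_zero _)
  refine ⟨x, hxp, hx0, ?_, ?_⟩
  · intro a ha
    have hmem : algebraMap A (Localization.AtPrime p) a ∈
        IsLocalRing.maximalIdeal (Localization.AtPrime p) :=
      (IsLocalization.AtPrime.to_map_mem_maximal_iff _ p a).2 ha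
    rw [hirr.maximalIdeal_eq, Ideal.mem_span_singleton'] at hmem
    obtain ⟨c, hc⟩ := hmem
    obtain ⟨c₀, s₀, rfl⟩ := IsLocalization.exists_mk'_eq p.primeCompl c
    refine ⟨s₀, s₀.2, ?_⟩
    rw [Ideal.mem_span_singleton']
    refine ⟨c₀, hinj ?_⟩
    rw [map_mul, map_mul, ← hc, ← mul_assoc,
      mul_comm (algebraMap A (Localization.AtPrime p) s₀), IsLocalization.mk'_spec]
  · intro d hd
    have hd' : algebraMap A (Localization.AtPrime p) d ≠ 0 :=
      fun h => hd (hinj (h.trans (map_zero _).symm))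
    obtain ⟨n, u, hu⟩ := IsDiscreteValuationRing.eq_unit_mul_pow_irreducible hd' hirr
    obtain ⟨u₀, s₀, hus⟩ := IsLocalization.exists_mk'_eq p.primeCompl (u : Localization.AtPrime p)
    have hu₀ : u₀ ∉ p := by
      have h1 : IsUnit (IsLocalization.mk' (Localization.AtPrime p) u₀ s₀) := hus ▸ u.isUnit
      exact (IsLocalization.AtPrime.isUnit_mk'_iff _ p u₀ s₀).1 h1
    refine ⟨n, u₀, s₀, hu₀, s₀.2, hinj ?_⟩
    rw [map_mul, map_mul, map_pow, hu, ← hus, ← mul_assoc,
      mul_comm (algebraMap A (Localization.AtPrime p) s₀), IsLocalization.mk'_spec]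

end DVR

section StepG

variable {A : Type u} [CommRing A] [IsDomain A] [IsNoetherianRing A] [IsIntegrallyClosed A]
  {B : Type u} [CommRing B] [Algebra A B] [Module.Flat A B]
  {T : Type u} [CommRing T]

theorem exists_smul_mem_range (θ : B →+* T) (hθ : Function.Injective θ)
    (hunit : ∀ a : A, a ≠ 0 → IsUnit (θ (algebraMap A B a)))
    (hsurj : ∀ t : T, ∃ d : A, d ≠ 0 ∧ ∃ b : B, θ (algebraMap A B d) * t = θ b)
    (p : Ideal A) [hpp : p.IsPrime] (hp : p.height = 1)
    (hred : ∀ (b : B) (m : ℕ), b ^ m ∈ p.map (algebraMap A B) → b ∈ p.map (algebraMap A B))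
    (z : T) (hz : θ.IsIntegralElem z) :
    ∃ a : A, a ∉ p ∧ ∃ b : B, θ (algebraMap A B a) * z = θ b := by
  obtain ⟨ϖ, hϖp, hϖ0, F1, F2⟩ := exists_uniformizer p hp
  have F1' : ∀ b ∈ p.map (algebraMap A B), ∃ v : A, v ∉ p ∧
      algebraMap A B v * b ∈ Ideal.span {algebraMap A B ϖ} := by
    intro b hb
    change b ∈ Submodule.span B (algebraMap A B '' p) at hb
    refine Submodule.span_induction (p := fun b _ => ∃ v : A, v ∉ p ∧
      algebraMap A B v * b ∈ Ideal.span {algebraMap A B ϖ}) ?_ ?_ ?_ ?_ hb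
    · rintro _ ⟨a, ha, rfl⟩
      obtain ⟨v, hv, hva⟩ := F1 a ha
      refine ⟨v, hv, ?_⟩
      rw [← map_mul]
      obtain ⟨c, hc⟩ := Ideal.mem_span_singleton'.1 hva
      rw [← hc, map_mul]
      exact Ideal.mul_mem_left _ _ (Ideal.mem_span_singleton_self _)
    · exact ⟨1, fun h => hpp.ne_top ((Ideal.eq_top_iff_one _).2 h), by simp⟩
    · rintro x y _ _ ⟨v₁, hv₁, h₁⟩ ⟨v₂, hv₂, h₂⟩
      refine ⟨v₁ * v₂, fun h => (hpp.mem_or_mem h).elim hv₁ hv₂, ?_⟩
      rw [map_mul, mul_add]
      refine Ideal.add_mem _ ?_ ?_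
      · have h3 : algebraMap A B v₁ * algebraMap A B v₂ * x =
            algebraMap A B v₂ * (algebraMap A B v₁ * x) := by ring
        rw [h3]
        exact Ideal.mul_mem_left _ _ h₁
      · rw [mul_assoc]
        exact Ideal.mul_mem_left _ _ h₂
    · rintro r x _ ⟨v, hv, h⟩
      refine ⟨v, hv, ?_⟩
      rw [smul_eq_mul, mul_left_comm]
      exact Ideal.mul_mem_left _ _ h
  have hϖunit : IsUnit (θ (algebraMap A B ϖ)) := hunit ϖ hϖ0
  have step : ∀ (n : ℕ) (z : T), θ.IsIntegralElem z →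
      (∃ a : A, a ∉ p ∧ ∃ b : B, θ (algebraMap A B (a * ϖ ^ n)) * z = θ b) →
      ∃ a : A, a ∉ p ∧ ∃ b : B, θ (algebraMap A B a) * z = θ b := by
    intro n
    induction n with
    | zero =>
      rintro z _ ⟨a, ha, b, hb⟩
      exact ⟨a, ha, b, by simpa using hb⟩
    | succ n ih =>
      rintro z hz ⟨a, ha, b, hb⟩
      apply ih z hz
      have hy : θ.IsIntegralElem (θ (algebraMap A B (a * ϖ ^ n)) * z) :=
        RingHom.IsIntegralElem.mul θ (θ.isIntegralElem_map) hz
      have hyb : θ (algebraMap A B ϖ) * (θ (algebraMap A B (a * ϖ ^ n)) * z) = θ b := by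
        rw [← hb, ← mul_assoc, ← map_mul, ← map_mul]
        congr 3
        ring
      obtain ⟨d, hd⟩ := pow_mem_span_of_integral θ hθ (algebraMap A B ϖ) b _ hy hyb
      have hbmem : b ∈ p.map (algebraMap A B) := by
        apply hred b d
        exact ((Ideal.span_singleton_le_iff_mem _).2 (Ideal.mem_map_of_mem _ hϖp)) hd
      obtain ⟨v, hv, hvb⟩ := F1' b hbmem
      obtain ⟨c, hc⟩ := Ideal.mem_span_singleton'.1 hvb
      refine ⟨v * a, fun h => (hpp.mem_or_mem h).elim hv ha, c, ?_⟩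
      apply hϖunit.mul_left_cancel
      calc θ (algebraMap A B ϖ) * (θ (algebraMap A B (v * a * ϖ ^ n)) * z)
          = θ (algebraMap A B v) *
              (θ (algebraMap A B ϖ) * (θ (algebraMap A B (a * ϖ ^ n)) * z)) := by
            simp only [map_mul, map_pow]
            ring
        _ = θ (algebraMap A B v) * θ b := by rw [hyb]
        _ = θ (c * algebraMap A B ϖ) := by rw [hc, map_mul]
        _ = θ (algebraMap A B ϖ) * θ c := by rw [map_mul, mul_comm]
  obtain ⟨d, hd0, b₀, hb₀⟩ := hsurj z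
  obtain ⟨n, u, v, hu, hv, hvd⟩ := F2 d hd0
  apply step n z hz
  refine ⟨u, hu, algebraMap A B v * b₀, ?_⟩
  rw [← hvd, map_mul, map_mul, map_mul, ← hb₀]
  ring

theorem mem_range_of_isIntegralElem (θ : B →+* T) (hθ : Function.Injective θ)
    (hunit : ∀ a : A, a ≠ 0 → IsUnit (θ (algebraMap A B a)))
    (hsurj : ∀ t : T, ∃ d : A, d ≠ 0 ∧ ∃ b : B, θ (algebraMap A B d) * t = θ b)
    (hred : ∀ (p : Ideal A) [p.IsPrime], p.height = 1 → ∀ (b : B) (m : ℕ),
      b ^ m ∈ p.map (algebraMap A B) → b ∈ p.map (algebraMap A B))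
    (z : T) (hz : θ.IsIntegralElem z) : z ∈ Set.range θ := by
  classical
  obtain ⟨J, hJ⟩ : ∃ J : Ideal A, ∀ a, a ∈ J ↔ ∃ b : B, θ (algebraMap A B a) * z = θ b :=
    ⟨{ carrier := {a | ∃ b : B, θ (algebraMap A B a) * z = θ b}
       add_mem' := by
        rintro a a' ⟨b, hb⟩ ⟨b', hb'⟩
        exact ⟨b + b', by rw [map_add, map_add, add_mul, hb, hb', map_add]⟩
       zero_mem' := ⟨0, by simp⟩
       smul_mem' := by
        rintro c a ⟨b, hb⟩
        exact ⟨algebraMap A B c * b, by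
          rw [smul_eq_mul, map_mul, map_mul, mul_assoc, hb, map_mul]⟩ }, fun a => Iff.rfl⟩
  obtain ⟨s, hs⟩ := (isNoetherianRing_iff_ideal_fg A).1 inferInstance J
  obtain ⟨d, hd0, b₀, hb₀⟩ := hsurj z
  have hdJ : d ∈ J := (hJ d).2 ⟨b₀, hb₀⟩
  let ι := {g : A // g ∈ s ∧ g ≠ 0}
  haveI : Finite ι := Finite.of_injective (fun i : ι => (⟨i.1, i.2.1⟩ : s))
    (fun i j h => Subtype.ext (by simpa using congrArg Subtype.val h))
  have hmemJ : ∀ i : ι, ∃ b : B, θ (algebraMap A B i.1) * z = θ b :=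
    fun i => (hJ i.1).1 (hs ▸ Ideal.subset_span i.2.1)
  choose m hm using hmemJ
  have hrel : ∀ i j : ι, j.1 • m i = i.1 • m j := by
    intro i j
    apply hθ
    rw [Algebra.smul_def, Algebra.smul_def, map_mul, map_mul, ← hm i, ← hm j]
    ring
  have hht : ∀ P : Ideal A, P.IsPrime → P.height = 1 → ∃ i : ι, i.1 ∉ P := by
    intro P hP hPh
    haveI := hP
    obtain ⟨a, haP, b, hb⟩ :=
      exists_smul_mem_range θ hθ hunit hsurj P hPh (hred P hPh) z hz
    by_contra hcon
    replace hcon : ∀ i : ι, i.1 ∈ P := fun i => by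
      by_contra hi
      exact hcon ⟨i, hi⟩
    apply haP
    have haJ : a ∈ J := (hJ a).2 ⟨b, hb⟩
    rw [← hs] at haJ
    refine (Ideal.span_le.2 ?_) haJ
    intro g hg
    by_cases hg0 : g = 0
    · rw [hg0]
      exact P.zero_mem
    · exact hcon ⟨g, hg, hg0⟩
  obtain ⟨x, hx⟩ := Groth.Agent.H6.FlatHartogs.exists_of_flat (fun i : ι => i.1) m hrel hht
    (fun i => i.2.2)
  have hex : Nonempty ι := by
    by_contra hcon
    rw [not_nonempty_iff] at hcon
    have hJ0 : J = ⊥ := by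
      rw [← hs, Ideal.span_eq_bot]
      intro g hg
      by_contra hg0
      exact hcon.false ⟨g, hg, hg0⟩
    rw [hJ0] at hdJ
    exact hd0 (Ideal.mem_bot.1 hdJ)
  obtain ⟨i⟩ := hex
  refine ⟨x, ?_⟩
  apply (hunit i.1 i.2.2).mul_left_cancel
  rw [hm i, ← hx i, Algebra.smul_def, map_mul]

end StepG

end Groth.Agent.H8.FlatNormalAsc
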