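import Mathlib
import Groth.Agent.Lib.Helper8.FlatNormalAsc.StepG
import Groth.Agent.Lib.Helper8.ICB.ICB1

/-!
# Flat algebras over a normal Noetherian domain with reduced codimension-one fibres and normal
generic fibre have normal local rings.
-/

set_option linter.style.haveILetI false

universe u

namespace Groth.Agent.H8.FlatNormalAsc

section Dom

/-- A nontrivial Noetherian ring whose localizations at maximal ideals are domains and which has
only trivial idempotents is a domain. -/
theorem isDomain_of_localization_isDomain (R : Type*) [CommRing R] [IsNoetherianRing R]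
    [Nontrivial R]
    (hloc : ∀ (n : Ideal R) [n.IsMaximal], IsDomain (Localization.AtPrime n))
    (hidem : ∀ e : R, e * e = e → e = 0 ∨ e = 1) : IsDomain R := by
  classical
  haveI hred : IsReduced R := isReduced_ofLocalizationMaximal R (fun J hJ => by
    haveI := hJ
    haveI := hloc J
    infer_instance)
  have hfin : (minimalPrimes R).Finite := minimalPrimes.finite_of_isNoetherianRing R
  have hInf : sInf (minimalPrimes R) = ⊥ := by
    have h1 : sInf (⊥ : Ideal R).minimalPrimes = (⊥ : Ideal R).radical := Ideal.sInf_minimalPrimes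
    change sInf (⊥ : Ideal R).minimalPrimes = ⊥
    rw [h1]
    change nilradical R = ⊥
    exact (nilradical_eq_zero R).trans Ideal.zero_eq_bot
  have hcomax : ∀ P ∈ minimalPrimes R, ∀ Q ∈ minimalPrimes R, P ≠ Q → P ⊔ Q = ⊤ := by
    intro P hP Q hQ hne
    by_contra htop
    obtain ⟨n, hn, hle⟩ := Ideal.exists_le_maximal _ htop
    haveI := hn
    haveI := hloc n
    have hKp : (RingHom.ker (algebraMap R (Localization.AtPrime n))).IsPrime :=
      RingHom.ker_isPrime _
    have hKle : ∀ P' ∈ minimalPrimes R, P' ≤ n →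
        P' = RingHom.ker (algebraMap R (Localization.AtPrime n)) := by
      intro P' hP' hP'n
      have h1 : RingHom.ker (algebraMap R (Localization.AtPrime n)) ≤ P' := by
        intro x hx
        rw [RingHom.mem_ker, IsLocalization.map_eq_zero_iff n.primeCompl] at hx
        obtain ⟨s, hs⟩ := hx
        have h2 : (s : R) * x ∈ P' := by
          rw [hs]
          exact P'.zero_mem
        exact (hP'.1.1.mem_or_mem h2).resolve_left (fun h => s.2 (hP'n h))
      exact le_antisymm (hP'.2 ⟨hKp, bot_le⟩ h1) h1
    exact hne ((hKle P hP (le_sup_left.trans hle)).trans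
      (hKle Q hQ (le_sup_right.trans hle)).symm)
  obtain ⟨⟨P₀, hP₀⟩⟩ : Nonempty (⊥ : Ideal R).minimalPrimes :=
    Ideal.nonempty_minimalPrimes bot_ne_top
  replace hP₀ : P₀ ∈ minimalPrimes R := hP₀
  by_cases hall : ∀ Q ∈ minimalPrimes R, Q = P₀
  · have hbot : P₀ = ⊥ := by
      apply le_antisymm _ bot_le
      rw [← hInf]
      exact le_sInf (fun Q hQ => (hall Q hQ).ge)
    have hPp : P₀.IsPrime := hP₀.1.1
    haveI : NoZeroDivisors R := ⟨fun {a b} hab => by
      have h1 : a * b ∈ P₀ := by
        rw [hab]
        exact P₀.zero_mem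
      rcases hPp.mem_or_mem h1 with h | h
      · left
        rw [hbot] at h
        exact Ideal.mem_bot.1 h
      · right
        rw [hbot] at h
        exact Ideal.mem_bot.1 h⟩
    exact NoZeroDivisors.to_isDomain R
  · exfalso
    obtain ⟨P₁, hP₁, hne⟩ : ∃ Q ∈ minimalPrimes R, Q ≠ P₀ := by
      by_contra h
      exact hall (fun Q hQ => by
        by_contra hQ'
        exact h ⟨Q, hQ, hQ'⟩)
    let s : Finset (Ideal R) := hfin.toFinset.erase P₀
    have hmem_s : ∀ Q, Q ∈ s ↔ Q ≠ P₀ ∧ Q ∈ minimalPrimes R := by
      intro Q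
      rw [Finset.mem_erase, Set.Finite.mem_toFinset]
    have hsup : P₀ ⊔ ⨅ Q ∈ s, Q = ⊤ := Ideal.sup_iInf_eq_top (fun Q hQ => by
      rw [hmem_s] at hQ
      exact hcomax P₀ hP₀ Q hQ.2 (Ne.symm hQ.1))
    have hinf : P₀ ⊓ ⨅ Q ∈ s, Q ≤ ⊥ := by
      rw [← hInf]
      apply le_sInf
      intro Q hQ
      by_cases hQP : Q = P₀
      · rw [hQP]
        exact inf_le_left
      · exact inf_le_right.trans (iInf₂_le Q ((hmem_s Q).2 ⟨hQP, hQ⟩))
    have h1 : (1 : R) ∈ P₀ ⊔ ⨅ Q ∈ s, Q := by
      rw [hsup]
      exact Submodule.mem_top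
    obtain ⟨e, he, e', he', hee⟩ := Submodule.mem_sup.1 h1
    have hzero : e * e' = 0 := by
      have h2 : e * e' ∈ P₀ ⊓ ⨅ Q ∈ s, Q :=
        Ideal.mem_inf.2 ⟨Ideal.mul_mem_right _ _ he, Ideal.mul_mem_left _ _ he'⟩
      exact Ideal.mem_bot.1 (hinf h2)
    have hid : e * e = e := by
      have h3 : e * e = e * (e + e') - e * e' := by ring
      rw [h3, hee, hzero]
      ring
    rcases hidem e hid with h0 | h1'
    · have h2 : e' = 1 := by
        rw [h0, zero_add] at hee
        exact hee
      have h3 : (1 : R) ∈ P₁ := by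
        rw [← h2]
        exact (iInf₂_le P₁ ((hmem_s P₁).2 ⟨hne, hP₁⟩) : ⨅ Q ∈ s, Q ≤ P₁) he'
      exact hP₁.1.1.ne_top ((Ideal.eq_top_iff_one _).2 h3)
    · have h3 : (1 : R) ∈ P₀ := h1' ▸ he
      exact hP₀.1.1.ne_top ((Ideal.eq_top_iff_one _).2 h3)

end Dom

section Local

variable {A : Type u} [CommRing A] [IsDomain A] [IsNoetherianRing A] [IsIntegrallyClosed A]
  {B : Type u} [CommRing B] [Algebra A B] [Module.Flat A B] [IsNoetherianRing B]

theorem normal_of_isLocalRing [IsLocalRing B]
    (hred : ∀ (p : Ideal A) [p.IsPrime], p.height = 1 → ∀ (b : B) (m : ℕ),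
      b ^ m ∈ p.map (algebraMap A B) → b ∈ p.map (algebraMap A B))
    (hgen : ∀ (Q : Ideal B) [Q.IsPrime], Q.comap (algebraMap A B) = ⊥ →
      IsDomain (Localization.AtPrime Q) ∧ IsIntegrallyClosed (Localization.AtPrime Q)) :
    IsDomain B ∧ IsIntegrallyClosed B := by
  classical
  let M : Submonoid B := Algebra.algebraMapSubmonoid B (nonZeroDivisors A)
  let T := Localization M
  have hM : M ≤ nonZeroDivisors B := by
    rintro _ ⟨a, ha, rfl⟩
    have hreg : IsSMulRegular B a := Module.Flat.isSMulRegular_of_nonZeroDivisors ha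
    rw [mem_nonZeroDivisors_iff_left]
    intro x hx
    apply hreg
    change a • x = a • (0 : B)
    rw [smul_zero, Algebra.smul_def]
    exact hx
  let θ : B →+* T := algebraMap B T
  have hθ : Function.Injective θ := IsLocalization.injective T hM
  have hunit : ∀ a : A, a ≠ 0 → IsUnit (θ (algebraMap A B a)) := fun a ha =>
    IsLocalization.map_units T
      (⟨algebraMap A B a, ⟨a, mem_nonZeroDivisors_of_ne_zero ha, rfl⟩⟩ : M)
  have hsurj : ∀ t : T, ∃ d : A, d ≠ 0 ∧ ∃ b : B, θ (algebraMap A B d) * t = θ b := by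
    intro t
    obtain ⟨⟨b, ⟨_, ⟨d, hd, rfl⟩⟩⟩, hb⟩ := IsLocalization.surj M t
    refine ⟨d, nonZeroDivisors.ne_zero hd, b, ?_⟩
    rw [mul_comm]
    exact hb
  have hint : ∀ z : T, θ.IsIntegralElem z → z ∈ Set.range θ :=
    fun z hz => mem_range_of_isIntegralElem θ hθ hunit hsurj hred z hz
  haveI hTN : IsNoetherianRing T := IsLocalization.isNoetherianRing M T inferInstance
  haveI hTnt : Nontrivial T := ⟨⟨θ 0, θ 1, fun h => zero_ne_one (hθ h)⟩⟩
  have hlocT : ∀ (n : Ideal T) [n.IsPrime],
      IsDomain (Localization.AtPrime n) ∧ IsIntegrallyClosed (Localization.AtPrime n) := by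
    intro n hn
    let Q : Ideal B := n.comap θ
    haveI hQ : Q.IsPrime := Ideal.comap_isPrime θ n
    have hQA : Q.comap (algebraMap A B) = ⊥ := by
      rw [eq_bot_iff]
      intro a ha
      rw [Ideal.mem_bot]
      by_contra ha0
      have h1 : θ (algebraMap A B a) ∈ n := ha
      exact hn.ne_top (Ideal.eq_top_of_isUnit_mem _ h1 (hunit a ha0))
    obtain ⟨hD, hN⟩ := hgen Q hQA
    have h2 : IsLocalization.AtPrime (Localization.AtPrime n) Q :=
      IsLocalization.isLocalization_isLocalization_atPrime_isLocalization M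
        (Localization.AtPrime n) n
    let e := IsLocalization.algEquiv Q.primeCompl (Localization.AtPrime Q) (Localization.AtPrime n)
    exact ⟨e.symm.toMulEquiv.isDomain _,
      @IsIntegrallyClosed.of_equiv (Localization.AtPrime Q) (Localization.AtPrime n) _ _
        e.toRingEquiv hN⟩
  have hidem : ∀ e : T, e * e = e → e = 0 ∨ e = 1 := by
    intro e he
    have hint_e : θ.IsIntegralElem e := by
      refine ⟨(Polynomial.X - Polynomial.C 1) * Polynomial.X,
        (Polynomial.monic_X_sub_C (1 : B)).mul Polynomial.monic_X, ?_⟩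
      rw [Polynomial.eval₂_mul, Polynomial.eval₂_sub, Polynomial.eval₂_X, Polynomial.eval₂_C,
        map_one, sub_mul, one_mul, he, sub_self]
    obtain ⟨ε, rfl⟩ := hint e hint_e
    have hε : ε * ε = ε := hθ (by rw [map_mul]; exact he)
    rcases IsLocalRing.isUnit_or_isUnit_one_sub_self ε with hu | hu
    · right
      have h4 : ε = 1 := by
        have h3 : ε * ε = ε * 1 := by rw [hε, mul_one]
        exact hu.mul_left_cancel h3
      rw [h4, map_one]
    · left
      have h4 : ε = 0 := by
        have h3 : (1 - ε) * ε = (1 - ε) * 0 := by rw [mul_zero, sub_mul, one_mul, hε, sub_self]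
        exact hu.mul_left_cancel h3
      rw [h4, map_zero]
  haveI hTdom : IsDomain T := isDomain_of_localization_isDomain T
    (fun n hn => (hlocT n).1) hidem
  haveI hTic : IsIntegrallyClosed T := IsIntegrallyClosed.of_localization_maximal
    (fun n _ hn => (hlocT n).2)
  haveI hBdom : IsDomain B := Function.Injective.isDomain θ hθ
  refine ⟨hBdom, ?_⟩
  exact Groth.Agent.H8.ICB.isIntegrallyClosed_of_integrallyClosedIn B T hθ
    (fun x hx => hint x hx)

theorem normal_atPrime
    (hred : ∀ (p : Ideal A) [p.IsPrime], p.height = 1 → ∀ (b : B) (m : ℕ),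
      b ^ m ∈ p.map (algebraMap A B) → b ∈ p.map (algebraMap A B))
    (hgen : ∀ (Q : Ideal B) [Q.IsPrime], Q.comap (algebraMap A B) = ⊥ →
      IsDomain (Localization.AtPrime Q) ∧ IsIntegrallyClosed (Localization.AtPrime Q))
    (q : Ideal B) [q.IsPrime] :
    IsDomain (Localization.AtPrime q) ∧ IsIntegrallyClosed (Localization.AtPrime q) := by
  haveI : Module.Flat B (Localization.AtPrime q) :=
    IsLocalization.flat (Localization.AtPrime q) q.primeCompl
  haveI : Module.Flat A (Localization.AtPrime q) :=
    Module.Flat.trans A B (Localization.AtPrime q)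
  haveI : IsNoetherianRing (Localization.AtPrime q) :=
    IsLocalization.isNoetherianRing q.primeCompl (Localization.AtPrime q) inferInstance
  have hmap : ∀ p : Ideal A, p.map (algebraMap A (Localization.AtPrime q)) =
      (p.map (algebraMap A B)).map (algebraMap B (Localization.AtPrime q)) := by
    intro p
    rw [Ideal.map_map, ← IsScalarTower.algebraMap_eq]
  refine normal_of_isLocalRing (A := A) (B := Localization.AtPrime q) ?_ ?_
  · intro p hp hph b' m hb'
    rw [hmap] at hb' ⊢
    obtain ⟨b, s, rfl⟩ := IsLocalization.exists_mk'_eq q.primeCompl b'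
    rw [IsLocalization.mem_map_algebraMap_iff q.primeCompl] at hb' ⊢
    obtain ⟨⟨⟨x, hx⟩, t⟩, hxt⟩ := hb'
    have hxt' : IsLocalization.mk' (Localization.AtPrime q) b s ^ m *
        algebraMap B (Localization.AtPrime q) (t : B) =
        algebraMap B (Localization.AtPrime q) x := hxt
    have hs : IsLocalization.mk' (Localization.AtPrime q) b s *
        algebraMap B (Localization.AtPrime q) s = algebraMap B (Localization.AtPrime q) b :=
      IsLocalization.mk'_spec (Localization.AtPrime q) b s
    have h1 : algebraMap B (Localization.AtPrime q) (b ^ m * t) =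
        algebraMap B (Localization.AtPrime q) (x * (s : B) ^ m) := by
      calc algebraMap B (Localization.AtPrime q) (b ^ m * t)
          = (IsLocalization.mk' (Localization.AtPrime q) b s *
              algebraMap B (Localization.AtPrime q) s) ^ m *
              algebraMap B (Localization.AtPrime q) t := by rw [hs, map_mul, map_pow]
        _ = (IsLocalization.mk' (Localization.AtPrime q) b s ^ m *
              algebraMap B (Localization.AtPrime q) t) *
              algebraMap B (Localization.AtPrime q) s ^ m := by ring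
        _ = algebraMap B (Localization.AtPrime q) (x * (s : B) ^ m) := by
              rw [hxt', map_mul, map_pow]
    obtain ⟨u, hu⟩ := (IsLocalization.eq_iff_exists q.primeCompl (Localization.AtPrime q)).1 h1
    have h2 : ((u : B) * t * b) ^ (m + 1) ∈ p.map (algebraMap A B) := by
      have h3 : ((u : B) * t * b) ^ (m + 1) =
          ((u : B) * t) ^ m * b * (x * ((u : B) * (s : B) ^ m)) := by
        calc ((u : B) * t * b) ^ (m + 1)
            = ((u : B) * t) ^ m * b * ((u : B) * (b ^ m * t)) := by ring
          _ = _ := by rw [hu]; ring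
      rw [h3]
      exact Ideal.mul_mem_left _ _ (Ideal.mul_mem_right _ _ hx)
    have h4 := hred p hph _ _ h2
    refine ⟨⟨⟨(u : B) * t * b, h4⟩, s * u * t⟩, ?_⟩
    change IsLocalization.mk' (Localization.AtPrime q) b s *
      algebraMap B (Localization.AtPrime q) ((s : B) * u * t) =
      algebraMap B (Localization.AtPrime q) ((u : B) * t * b)
    rw [map_mul, map_mul, map_mul, map_mul, ← hs]
    ring
  · intro Q' hQ' hQ'A
    let Q : Ideal B := Q'.comap (algebraMap B (Localization.AtPrime q))
    haveI hQ : Q.IsPrime := Ideal.comap_isPrime _ Q'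
    have hQA : Q.comap (algebraMap A B) = ⊥ := by
      rw [Ideal.comap_comap, ← IsScalarTower.algebraMap_eq A B (Localization.AtPrime q)]
      exact hQ'A
    obtain ⟨hD, hN⟩ := hgen Q hQA
    have h2 : IsLocalization.AtPrime (Localization.AtPrime Q') Q :=
      IsLocalization.isLocalization_isLocalization_atPrime_isLocalization q.primeCompl
        (Localization.AtPrime Q') Q'
    let e := IsLocalization.algEquiv Q.primeCompl (Localization.AtPrime Q)
      (Localization.AtPrime Q')
    exact ⟨e.symm.toMulEquiv.isDomain _,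
      @IsIntegrallyClosed.of_equiv (Localization.AtPrime Q) (Localization.AtPrime Q') _ _
        e.toRingEquiv hN⟩

end Local

end Groth.Agent.H8.FlatNormalAsc
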