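import Mathlib
import Groth.Prelude.Def_Pi1
import Groth.Agent.Lib.Helper8.FlatNormalAsc.StepL
import Groth.Agent.Lib.Helper6.FlatHartogs
import Groth.Agent.Lib.Helper8.SmoothNormalRing
import Groth.Agent.Lib.Helper8.DVRSch2

/-!
# Normality of the total space of a flat family with geometrically reduced fibres and smooth
generic fibre over a normal Noetherian integral base.
-/

set_option linter.style.haveILetI false
set_option linter.unusedSectionVars false

universe u

open AlgebraicGeometry CategoryTheory CategoryTheory.Limits TopologicalSpace Opposite TensorProduct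

namespace Groth.Agent.H8.FlatNormalAsc

section Geo

variable {C S : Scheme.{u}} (f : C ⟶ S) {W : S.Opens} (hW : IsAffineOpen W) {V : C.Opens}
  (hV : IsAffineOpen V) (e : V ≤ f ⁻¹ᵁ W)

include hW hV in
theorem exists_openImmersion [Algebra Γ(S, W) Γ(C, V)]
    (hφ : algebraMap Γ(S, W) Γ(C, V) = (f.appLE W V e).hom)
    (R' : Type u) [CommRing R'] [Algebra Γ(S, W) R'] (g : Spec (CommRingCat.of R') ⟶ S)
    (hg : Spec.map (CommRingCat.ofHom (algebraMap Γ(S, W) R')) ≫ hW.fromSpec = g) :
    ∃ j : Spec (CommRingCat.of (Γ(C, V) ⊗[Γ(S, W)] R')) ⟶ pullback f g, IsOpenImmersion j ∧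
      j ≫ pullback.snd f g = Spec.map (CommRingCat.ofHom
        (Algebra.TensorProduct.includeRight.toRingHom : R' →+* Γ(C, V) ⊗[Γ(S, W)] R')) := by
  have e₁ : Spec.map (CommRingCat.ofHom (algebraMap Γ(S, W) Γ(C, V))) ≫ hW.fromSpec =
      hV.fromSpec ≫ f := by
    rw [hφ]
    exact IsAffineOpen.SpecMap_appLE_fromSpec f hW hV e
  have e₂ : Spec.map (CommRingCat.ofHom (algebraMap Γ(S, W) R')) ≫ hW.fromSpec = 𝟙 _ ≫ g := by
    rw [Category.id_comp, hg]
  haveI : IsOpenImmersion hV.fromSpec := hV.isOpenImmersion_fromSpec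
  haveI : IsOpenImmersion hW.fromSpec := hW.isOpenImmersion_fromSpec
  haveI hoi := Scheme.pullback_map_isOpenImmersion
    (Spec.map (CommRingCat.ofHom (algebraMap Γ(S, W) Γ(C, V))))
    (Spec.map (CommRingCat.ofHom (algebraMap Γ(S, W) R'))) f g hV.fromSpec (𝟙 _) hW.fromSpec e₁ e₂
  refine ⟨(pullbackSpecIso Γ(S, W) Γ(C, V) R').inv ≫
    pullback.map _ _ f g hV.fromSpec (𝟙 _) hW.fromSpec e₁ e₂, inferInstance, ?_⟩
  rw [Category.assoc, pullback.lift_snd, Category.comp_id, pullbackSpecIso_inv_snd]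
  rfl

include hW hV in
theorem quot_reduced [Flat f] [GeometricallyReduced f] [Algebra Γ(S, W) Γ(C, V)]
    (hφ : algebraMap Γ(S, W) Γ(C, V) = (f.appLE W V e).hom)
    [IsNoetherianRing Γ(S, W)] (p : Ideal Γ(S, W)) [p.IsPrime] :
    _root_.IsReduced (Γ(C, V) ⧸ p.map (algebraMap Γ(S, W) Γ(C, V))) := by
  let g : Spec (CommRingCat.of (Γ(S, W) ⧸ p)) ⟶ S :=
    Spec.map (CommRingCat.ofHom (algebraMap Γ(S, W) (Γ(S, W) ⧸ p))) ≫ hW.fromSpec
  obtain ⟨j, hj, -⟩ := exists_openImmersion f hW hV e hφ (Γ(S, W) ⧸ p) g rfl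
  haveI hdom : IsDomain (Γ(S, W) ⧸ p) := inferInstance
  haveI hnoe : IsNoetherianRing (Γ(S, W) ⧸ p) := inferInstance
  haveI hredY : IsReduced (Spec (CommRingCat.of (Γ(S, W) ⧸ p))) := inferInstance
  haveI hnoeY : IsLocallyNoetherian (Spec (CommRingCat.of (Γ(S, W) ⧸ p))) := inferInstance
  haveI hredP : IsReduced (pullback f g) := inferInstance
  have h1 : IsReduced (Spec (CommRingCat.of (Γ(C, V) ⊗[Γ(S, W)] (Γ(S, W) ⧸ p)))) :=
    @isReduced_of_isOpenImmersion _ _ j hj hredP
  haveI h2 : _root_.IsReduced (Γ(C, V) ⊗[Γ(S, W)] (Γ(S, W) ⧸ p)) :=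
    (affine_isReduced_iff _).1 h1
  let e1 := Algebra.TensorProduct.quotIdealMapEquivTensorQuot Γ(C, V) p
  exact isReduced_of_injective e1.toRingEquiv.toRingHom e1.injective

include hW hV in
theorem smooth_tensor [Algebra Γ(S, W) Γ(C, V)]
    (hφ : algebraMap Γ(S, W) Γ(C, V) = (f.appLE W V e).hom)
    (R' : Type u) [CommRing R'] [Algebra Γ(S, W) R'] (g : Spec (CommRingCat.of R') ⟶ S)
    (hg : Spec.map (CommRingCat.ofHom (algebraMap Γ(S, W) R')) ≫ hW.fromSpec = g)
    (hsm : Smooth (pullback.snd f g)) :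
    RingHom.Smooth
      (Algebra.TensorProduct.includeRight.toRingHom : R' →+* Γ(C, V) ⊗[Γ(S, W)] R') := by
  obtain ⟨j, hj, hjs⟩ := exists_openImmersion f hW hV e hφ R' g hg
  haveI := hj
  haveI := hsm
  have hsm2 : Smooth (Spec.map (CommRingCat.ofHom
      (Algebra.TensorProduct.includeRight.toRingHom : R' →+* Γ(C, V) ⊗[Γ(S, W)] R'))) := by
    rw [← hjs]
    infer_instance
  exact (HasRingHomProperty.Spec_iff (P := @Smooth)).1 hsm2

include hW in
theorem isFractionRing_residueField [IsIntegral S] (hη : genericPoint S ∈ W) :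
    @IsFractionRing Γ(S, W) _ (S.residueField (genericPoint S)) _
      (S.evaluation W (genericPoint S) hη).hom.toAlgebra := by
  haveI : Nonempty W := ⟨⟨genericPoint S, hη⟩⟩
  letI : Algebra Γ(S, W) (S.residueField (genericPoint S)) :=
    (S.evaluation W (genericPoint S) hη).hom.toAlgebra
  haveI := functionField_isFractionRing_of_isAffineOpen S W hW
  have hfield : IsField (S.presheaf.stalk (genericPoint S)) :=
    isField_stalk_of_closure_mem_irreducibleComponents S _
      (by simp [irreducibleComponents_eq_singleton])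
  have hinj0 : Function.Injective (IsLocalRing.residue (S.presheaf.stalk (genericPoint S))) := by
    rw [injective_iff_map_eq_zero]
    intro a ha
    have h1 : a ∈ IsLocalRing.maximalIdeal (S.presheaf.stalk (genericPoint S)) :=
      (IsLocalRing.residue_eq_zero_iff a).1 ha
    rw [IsLocalRing.isField_iff_maximalIdeal_eq.1 hfield] at h1
    exact Ideal.mem_bot.1 h1
  have hinj : Function.Injective (S.residue (genericPoint S)).hom := hinj0
  have hsurj : Function.Surjective (S.residue (genericPoint S)).hom :=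
    IsLocalRing.residue_surjective
  let eK : S.functionField ≃ₐ[Γ(S, W)] S.residueField (genericPoint S) :=
    AlgEquiv.ofBijective
      { (S.residue (genericPoint S)).hom with
        commutes' := fun a => rfl }
      ⟨hinj, hsurj⟩
  exact IsLocalization.isLocalization_of_algEquiv (nonZeroDivisors Γ(S, W)) eK

include hW hV in
theorem normal_of_smooth_fiber (η : S) (hsm : Smooth (f.fiberToSpecResidueField η))
    [IsDomain Γ(S, W)] [Algebra Γ(S, W) Γ(C, V)]
    (hφ : algebraMap Γ(S, W) Γ(C, V) = (f.appLE W V e).hom)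
    [Algebra Γ(S, W) (S.residueField η)]
    (hg : Spec.map (CommRingCat.ofHom (algebraMap Γ(S, W) (S.residueField η))) ≫ hW.fromSpec =
      S.fromSpecResidueField η)
    [IsFractionRing Γ(S, W) (S.residueField η)]
    (Q : Ideal Γ(C, V)) [hQp : Q.IsPrime] (hQ : Q.comap (algebraMap Γ(S, W) Γ(C, V)) = ⊥) :
    IsDomain (Localization.AtPrime Q) ∧ IsIntegrallyClosed (Localization.AtPrime Q) := by
  classical
  have hsm3 := smooth_tensor f hW hV e hφ (S.residueField η) (S.fromSpecResidueField η) hg hsm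
  letI algR : Algebra (S.residueField η) (Γ(C, V) ⊗[Γ(S, W)] (S.residueField η)) :=
    Algebra.TensorProduct.rightAlgebra
  haveI hsm4 : Algebra.Smooth (S.residueField η) (Γ(C, V) ⊗[Γ(S, W)] (S.residueField η)) := hsm3
  haveI hKdom : IsDomain (S.residueField η) :=
    (inferInstance : IsDomain (IsLocalRing.ResidueField (S.presheaf.stalk η)))
  haveI hKic : IsIntegrallyClosed (S.residueField η) :=
    (inferInstance : IsIntegrallyClosed (IsLocalRing.ResidueField (S.presheaf.stalk η)))
  let M := Algebra.algebraMapSubmonoid Γ(C, V) (nonZeroDivisors Γ(S, W))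
  haveI hlocT : IsLocalization M (Γ(C, V) ⊗[Γ(S, W)] (S.residueField η)) :=
    IsLocalization.tensor (S.residueField η) (nonZeroDivisors Γ(S, W))
  have hdisj : Disjoint (M : Set Γ(C, V)) (Q : Set Γ(C, V)) := by
    rw [Set.disjoint_left]
    rintro _ ⟨a, ha, rfl⟩ haQ
    have h1 : a ∈ Q.comap (algebraMap Γ(S, W) Γ(C, V)) := haQ
    rw [hQ] at h1
    exact nonZeroDivisors.ne_zero ha (Ideal.mem_bot.1 h1)
  let Q' : Ideal (Γ(C, V) ⊗[Γ(S, W)] (S.residueField η)) :=
    Q.map (algebraMap Γ(C, V) (Γ(C, V) ⊗[Γ(S, W)] (S.residueField η)))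
  haveI hQ' : Q'.IsPrime := IsLocalization.isPrime_of_isPrime_disjoint M _ _ hQp hdisj
  have hQ'c : Q'.comap (algebraMap Γ(C, V) (Γ(C, V) ⊗[Γ(S, W)] (S.residueField η))) = Q :=
    IsLocalization.under_map_of_isPrime_disjoint M _ hQp hdisj
  obtain ⟨hD, hN⟩ := Groth.Agent.H8.SmNR.normal_localization_of_smooth_domain
    (S.residueField η) (Γ(C, V) ⊗[Γ(S, W)] (S.residueField η)) Q'
  have h2 : IsLocalization.AtPrime (Localization.AtPrime Q') Q := by
    have h3 := IsLocalization.isLocalization_isLocalization_atPrime_isLocalization M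
      (Localization.AtPrime Q') Q'
    have hpc : (Q'.comap (algebraMap Γ(C, V)
        (Γ(C, V) ⊗[Γ(S, W)] (S.residueField η)))).primeCompl = Q.primeCompl := by
      ext x
      simp only [Ideal.primeCompl, Submonoid.mem_mk, Subsemigroup.mem_mk, Set.mem_compl_iff,
        SetLike.mem_coe, hQ'c]
    change IsLocalization Q.primeCompl _
    rw [← hpc]
    exact h3
  let e' := IsLocalization.algEquiv Q.primeCompl (Localization.AtPrime Q) (Localization.AtPrime Q')
  exact ⟨e'.toMulEquiv.isDomain _,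
    @IsIntegrallyClosed.of_equiv (Localization.AtPrime Q') (Localization.AtPrime Q) _ _
      e'.symm.toRingEquiv hN⟩

end Geo

theorem main (S C : Scheme.{u}) [IsIntegral S] [IsNoetherian S]
    (hS : Pi1.IsNormalScheme S) (f : C ⟶ S) [Flat f] [LocallyOfFiniteType f]
    [GeometricallyReduced f]
    (hsm : Smooth (f.fiberToSpecResidueField (genericPoint S))) :
    Pi1.IsNormalScheme C := by
  intro x
  obtain ⟨W, hW, hfxW, -⟩ := exists_isAffineOpen_mem_and_subset (x := f x) (U := ⊤) trivial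
  obtain ⟨V, hV, hxV, hVW⟩ := exists_isAffineOpen_mem_and_subset (x := x) (U := f ⁻¹ᵁ W) hfxW
  have e : V ≤ f ⁻¹ᵁ W := hVW
  haveI hne : Nonempty W := ⟨⟨f x, hfxW⟩⟩
  have hη : genericPoint S ∈ W :=
    ((genericPoint_spec S).mem_open_set_iff W.isOpen).mpr (by simpa using hne)
  haveI hAdom : IsDomain Γ(S, W) := inferInstance
  haveI hAnoe : IsNoetherianRing Γ(S, W) := IsLocallyNoetherian.component_noetherian ⟨W, hW⟩
  haveI hAic : IsIntegrallyClosed Γ(S, W) :=
    Groth.Agent.H6.FlatHartogs.intClosed_sections (fun y => (hS y).2) hW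
  haveI hCnoe : IsLocallyNoetherian C := LocallyOfFiniteType.isLocallyNoetherian f
  haveI hBnoe : IsNoetherianRing Γ(C, V) := IsLocallyNoetherian.component_noetherian ⟨V, hV⟩
  letI algB : Algebra Γ(S, W) Γ(C, V) := (f.appLE W V e).hom.toAlgebra
  have hφ : algebraMap Γ(S, W) Γ(C, V) = (f.appLE W V e).hom := rfl
  haveI hflat : Module.Flat Γ(S, W) Γ(C, V) :=
    HasRingHomProperty.appLE @Flat f inferInstance ⟨W, hW⟩ ⟨V, hV⟩ e
  letI algK : Algebra Γ(S, W) (S.residueField (genericPoint S)) :=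
    (S.evaluation W (genericPoint S) hη).hom.toAlgebra
  haveI hfrac : IsFractionRing Γ(S, W) (S.residueField (genericPoint S)) :=
    isFractionRing_residueField hW hη
  have hg : Spec.map (CommRingCat.ofHom (algebraMap Γ(S, W) (S.residueField (genericPoint S)))) ≫
      hW.fromSpec = S.fromSpecResidueField (genericPoint S) :=
    Groth.Agent.H8.DVRSch.specMap_evaluation_fromSpec hW hη
  have key := normal_atPrime (A := Γ(S, W)) (B := Γ(C, V))
    (fun p hp _ b m hb => by
      haveI hq := quot_reduced f hW hV e hφ p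
      have h1 : (Ideal.Quotient.mk (p.map (algebraMap Γ(S, W) Γ(C, V))) b) ^ m = 0 := by
        rw [← map_pow, Ideal.Quotient.eq_zero_iff_mem]
        exact hb
      have h2 := IsReduced.eq_zero _ (⟨m, h1⟩ : IsNilpotent _)
      exact Ideal.Quotient.eq_zero_iff_mem.1 h2)
    (fun Q hQ hQA => normal_of_smooth_fiber f hW hV e (genericPoint S) hsm hφ hg Q hQA)
    (hV.primeIdealOf ⟨x, hxV⟩).asIdeal
  let _ := TopCat.Presheaf.algebra_section_stalk C.presheaf (⟨x, hxV⟩ : V)
  have hloc := hV.isLocalization_stalk ⟨x, hxV⟩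
  let eq := IsLocalization.algEquiv (hV.primeIdealOf ⟨x, hxV⟩).asIdeal.primeCompl
    (Localization.AtPrime (hV.primeIdealOf ⟨x, hxV⟩).asIdeal) (C.presheaf.stalk x)
  haveI := key.1
  exact ⟨eq.symm.toMulEquiv.isDomain _,
    @IsIntegrallyClosed.of_equiv _ _ _ _ eq.toRingEquiv key.2⟩

end Groth.Agent.H8.FlatNormalAsc
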