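import Mathlib
import Groth.Prelude.Def_Pi1
import Groth.Prelude.Def_ega3
import Groth.Agent.Lib.Helper8.FlatNormalAsc.Geo
import Groth.Agent.Lib.Helper5.AG.NormalComponents
import Groth.Agent.Lib.Helper1.PushO5

/-!
# Birational morphisms between flat proper families of curves with normal total spaces
-/

set_option linter.style.haveILetI false
set_option linter.unusedSectionVars false

universe u

open AlgebraicGeometry CategoryTheory CategoryTheory.Limits TopologicalSpace Opposite

namespace Groth.Agent.H8.FlatNormalAsc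

theorem connectedSpace_of_closed {C S : Scheme.{u}} (f : C ⟶ S) [UniversallyClosed f]
    [GeometricallyConnected f] [ConnectedSpace S] : ConnectedSpace C := by
  have hq := (f.isClosedMap.isQuotientMap f.continuous f.surjective).isCoinducing
  have h := hq.isConnected_preimage_of_isClosed f.isConnected_preimage_singleton isClosed_univ
    isConnected_univ
  rw [Set.preimage_univ] at h
  exact connectedSpace_iff_univ.2 h

theorem isIntegral_of_normal (C : Scheme.{u}) [IsNoetherian C] [ConnectedSpace C]
    (hN : Pi1.IsNormalScheme C) : IsIntegral C := by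
  obtain ⟨hopen, -⟩ := Groth.Agent.H5.AG.normal_components C
    (fun U _ => by
      haveI : NoetherianSpace ↥U := (inferInstance : NoetherianSpace ↥(U : Set C))
      exact TopologicalSpace.NoetherianSpace.finite_irreducibleComponents) hN
  obtain ⟨x₀⟩ : Nonempty C := inferInstance
  have hZ := irreducibleComponent_mem_irreducibleComponents x₀
  have hclopen : IsClopen (irreducibleComponent x₀) :=
    ⟨isClosed_irreducibleComponent, hopen _ hZ⟩
  have huniv : irreducibleComponent x₀ = Set.univ :=
    hclopen.eq_univ ⟨x₀, mem_irreducibleComponent⟩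
  have hirr : IsIrreducible (Set.univ : Set C) := huniv ▸ isIrreducible_irreducibleComponent
  haveI : IrreducibleSpace C :=
    { isPreirreducible_univ := hirr.isPreirreducible, toNonempty := ⟨x₀⟩ }
  haveI : ∀ x : C, _root_.IsReduced (C.presheaf.stalk x) := fun x => by
    haveI := (hN x).1
    infer_instance
  haveI : IsReduced C := isReduced_of_isReduced_stalk C
  exact isIntegral_of_irreducibleSpace_of_isReduced C

theorem isIntegral_total {C S : Scheme.{u}} [IsIntegral S] [IsNoetherian S] (f : C ⟶ S)
    [IsProper f] [GeometricallyConnected f] (hN : Pi1.IsNormalScheme C) : IsIntegral C := by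
  haveI : IsLocallyNoetherian C := LocallyOfFiniteType.isLocallyNoetherian f
  haveI : CompactSpace C := QuasiCompact.compactSpace_of_compactSpace f
  haveI : IsNoetherian C := {}
  haveI : ConnectedSpace C := connectedSpace_of_closed f
  exact isIntegral_of_normal C hN

theorem main2 (S C₁ C₂ : Scheme.{u}) [IsIntegral S] [IsNoetherian S] (hS : Pi1.IsNormalScheme S)
    (f₁ : C₁ ⟶ S) (f₂ : C₂ ⟶ S)
    [Flat f₁] [IsProper f₁] [GeometricallyReduced f₁] [GeometricallyConnected f₁]
    [Flat f₂] [IsProper f₂] [GeometricallyReduced f₂] [GeometricallyConnected f₂]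
    (hsm₁ : Smooth (f₁.fiberToSpecResidueField (genericPoint S)))
    (hsm₂ : Smooth (f₂.fiberToSpecResidueField (genericPoint S)))
    (φ : C₁ ⟶ C₂) (hφ : φ ≫ f₂ = f₁)
    (hbir : ∃ U : C₂.Opens, Dense (U : Set C₂) ∧ IsIso (φ ∣_ U)) :
    ∀ V : C₂.Opens, IsIso (φ.app V) := by
  have hN₁ := main S C₁ hS f₁ hsm₁
  have hN₂ := main S C₂ hS f₂ hsm₂
  haveI hI₁ : IsIntegral C₁ := isIntegral_total f₁ hN₁
  haveI hI₂ : IsIntegral C₂ := isIntegral_total f₂ hN₂
  haveI : IsProper (φ ≫ f₂) := by
    rw [hφ]
    infer_instance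
  haveI : IsProper φ := IsProper.of_comp φ f₂
  obtain ⟨U, hUd, hUiso⟩ := hbir
  haveI := hUiso
  have hcl : closure {φ.base (genericPoint C₁)} = Set.univ := by
    have h1 : (U : Set C₂) ⊆ closure {φ.base (genericPoint C₁)} := by
      intro y hy
      obtain ⟨x, hx⟩ := (φ ∣_ U).surjective ⟨y, hy⟩
      have hx' : φ.base x.1 = y := by
        rw [← morphismRestrict_base_coe φ U x, hx]
      rw [← hx']
      exact specializes_iff_mem_closure.1
        (((genericPoint_spec C₁).specializes (Set.mem_univ x.1)).map φ.continuous)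
    exact Set.eq_univ_of_univ_subset (hUd.closure_eq ▸ closure_minimal h1 isClosed_closure)
  have hdom : φ.base (genericPoint C₁) ⤳ genericPoint C₂ :=
    specializes_iff_mem_closure.2 (by rw [hcl]; trivial)
  have hdom' : genericPoint C₂ ⤳ φ.base (genericPoint C₁) :=
    (genericPoint_spec C₂).specializes (Set.mem_univ _)
  have hηU : genericPoint C₁ ∈ φ ⁻¹ᵁ U := by
    obtain ⟨y, hy⟩ := hUd.nonempty
    obtain ⟨x, -⟩ := (φ ∣_ U).surjective ⟨y, hy⟩
    exact ((genericPoint_spec C₁).mem_open_set_iff (φ ⁻¹ᵁ U).isOpen).mpr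
      ⟨x.1, Set.mem_inter (Set.mem_univ _) x.2⟩
  have hstalk : IsIso (φ.stalkMap (genericPoint C₁)) := by
    have h1 : IsIso ((φ ∣_ U).stalkMap ⟨genericPoint C₁, hηU⟩) := inferInstance
    exact ((MorphismProperty.isomorphisms CommRingCat).arrow_mk_iso_iff
      (morphismRestrictStalkMap φ U ⟨genericPoint C₁, hηU⟩)).1 h1
  have hs1 : Function.Surjective (φ.stalkMap (genericPoint C₁)).hom :=
    (ConcreteCategory.bijective_of_isIso (φ.stalkMap (genericPoint C₁))).2
  have hs2 : Function.Surjective (C₂.presheaf.stalkSpecializes hdom).hom := by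
    intro t
    refine ⟨(C₂.presheaf.stalkSpecializes hdom').hom t, ?_⟩
    rw [← CommRingCat.comp_apply, TopCat.Presheaf.stalkSpecializes_comp,
      TopCat.Presheaf.stalkSpecializes_refl]
    rfl
  have hsurj : Function.Surjective (CohIII.stalkToFunctionField φ (genericPoint C₂) hdom) := by
    change Function.Surjective ((φ.stalkMap (genericPoint C₁)).hom.comp
      (C₂.presheaf.stalkSpecializes hdom).hom)
    rw [RingHom.coe_comp]
    exact hs1.comp hs2
  intro V
  exact Groth.Agent.H1.PushO.isIso_app' φ hdom hN₂ (fun x _ => hsurj x) V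

end Groth.Agent.H8.FlatNormalAsc
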